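import Cfsg.Agent.H374.TC.CuTab
import Cfsg.Agent.H962.FC.Tor

/-!
# C16 for `F₄(q)` (helper374, S2464)

* `chain` : the chain of the groups `Sup X (SS m)`;
* `c16` : `C16 K`.
-/

set_option autoImplicit false
set_option linter.unusedSectionVars false

namespace Cfsg.Agent.H374.TC.Cu

open CoxeterSystem Cfsg.Agent.ChevalleyStructure.CoxeterGeom Cfsg.Agent.Tits.Roots Cfsg.Agent.Tits.Core
  Cfsg.Agent.Tits.RootComb Cfsg.Agent.Nodes.Comb Cfsg.Agent.Nodes.Reps Cfsg.Agent.Nodes.BNOf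
  Cfsg.Agent.Nodes.StabComb Cfsg.Agent.Nodes.Bruhat Cfsg.Agent.Nodes.OppDec Cfsg.Agent.Nodes.LeviDec
  Cfsg.Agent.Nodes.NormalForm Cfsg.Agent.Nodes.Unique Cfsg.Agent.Nodes.NormX Cfsg.Agent.Nodes.Coroot
  Cfsg.Agent.KFacts.RgdPar Cfsg.Agent.KFacts.RgdChevCoord
  Cfsg.Agent.KFacts.RgdBorelTits Cfsg.Agent.KFacts.RgdFilt
open Cfsg.Lie Cfsg.Agent.ChevalleyStructure Cfsg.Agent.ChevalleyStructure.Elts
  Cfsg.Agent.ChevalleyStructure.RootVec Cfsg.Agent.ChevalleyStructure.RootVecTab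
  Cfsg.Agent.ChevalleyStructure.NPerm Cfsg.Agent.ChevalleyStructure.CoxeterGeomTypes
open Cfsg.Agent.Nodes Cfsg.Agent.Nodes.RGDChev
open Cfsg.Agent.H701.F43.Cent (hF cF nroots finW)
open Cfsg.Agent.H520.FC
open Cfsg.Agent.SigZero.FFourTwo (LC chkLC key mem_WJ_iff rep_word eq_of_key)

universe u

variable {K : Type u} [Field K] [Finite K]

theorem chain (C : Subgroup ↥(chevF4.group K)) (P : ℕ → Prop) [DecidablePred P]
    (hP : ∀ m, 24 ≤ m → m < 48 → ¬ P m → RGD.Sup (XX chevF4 4 K) (SS m) ⊓ C ≤ RGD.Sup (XX chevF4 4 K) (SS (m + 1)) ⊓ C) :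
    Nat.card ↥(UK K ⊓ C) ≤ Nat.card K ^ ((List.range' 24 24).filter fun r => decide (P r)).length := by
  have key : ∀ k ≤ 24, Nat.card ↥(RGD.Sup (XX chevF4 4 K) (SS (48 - k)) ⊓ C) ≤
      Nat.card K ^ ((List.range' (48 - k) k).filter fun r => decide (P r)).length := by
    intro k
    induction k with
    | zero =>
      intro _
      have h1 : RGD.Sup (XX chevF4 4 K) (SS (48 - 0)) = ⊥ := by
        rw [Nat.sub_zero, SS_48, Sup_empty]
      rw [h1, bot_inf_eq, Subgroup.card_bot]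
      exact Nat.one_le_pow _ _ Nat.card_pos
    | succ k ih =>
      intro hk
      have ih' := ih (by omega)
      set m := 48 - (k + 1) with hm
      have e1 : 48 - k = m + 1 := by omega
      rw [e1] at ih'
      have e2 : List.range' m (k + 1) = m :: List.range' (m + 1) k := List.range'_succ
      rw [e2]
      by_cases hPm : P m
      · rw [List.filter_cons_of_pos (by simpa using hPm), List.length_cons, pow_succ, mul_comm]
        refine (card_step C (SS_succ_le K m)).trans ?_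
        rw [relIndex_SS K (by omega) (by omega)]
        exact Nat.mul_le_mul_left _ ih'
      · rw [List.filter_cons_of_neg (by simpa using hPm)]
        exact (Nat.card_mono (Set.toFinite _) (hP m (by omega) (by omega) hPm)).trans ih'
  have h1 := key 24 le_rfl
  rw [show 48 - 24 = 24 from rfl, SS_24] at h1
  exact h1

theorem SS_mem {m : ℕ} (hm : m < 48) : ∀ y ∈ SS m, y = vec chevF4 4 m ∨ y ∈ SS (m + 1) := by
  intro y hy
  by_cases h : y = vec chevF4 4 m
  · exact Or.inl h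
  · right
    rw [← SS_diff hm]
    exact ⟨hy, h⟩

/-- `s = b k` -/
theorem case_rep {p : ℕ} [Fact p.Prime] [CharP K p] {ω : List (Fin 4)} (hω : cn ω ≤ 16)
    {b k : ↥(chevF4.group K)} (hb : b ∈ BK K)
    (hk : Rp cF (rgd (K := K) hF cF p).nsys (cF.wordProd ω) k) :
    Nat.card ↥(UK K ⊓ Subgroup.centralizer ({b * k} : Set ↥(chevF4.group K))) ≤ Nat.card K ^ 16 := by
  refine (chain (Subgroup.centralizer {b * k}) (fun r => r ≤ Cfsg.Agent.SigZero.FFourTwo.act ω r) ?_).trans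
    (Nat.pow_le_pow_right Nat.card_pos hω)
  intro m h24 hm hP
  refine le_of_rep (rgd (K := K) hF cF p) hk rfl (SS_pos h24) (closed_SS h24) (B_nrm_SS K h24 hm.le hb)
    (SS_mem hm) ?_
  rintro ⟨r, hmr, hr, e⟩
  have h1 := rep_word cF ω hm
  have h2 : vec chevF4 4 (Cfsg.Agent.SigZero.FFourTwo.act ω m) = vec chevF4 4 r := by
    rw [← h1.1]
    exact e
  have h3 := vec_inj' h1.2 hr h2
  apply hP
  rw [h3]
  exact hmr

/-- `s = t v` -/
theorem case_tor {p : ℕ} [Fact p.Prime] [CharP K p] {t v : ↥(chevF4.group K)} (ht : t ∈ TT chevF4 K) (h1 : t ≠ 1)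
    (hv : v ∈ UK K) :
    Nat.card ↥(UK K ⊓ Subgroup.centralizer ({t * v} : Set ↥(chevF4.group K))) ≤ Nat.card K ^ 16 := by
  classical
  refine (chain (Subgroup.centralizer {t * v}) (fun r => ∀ v ∈ XX chevF4 4 K (vec chevF4 4 r), t * v = v * t)
    ?_).trans (Nat.pow_le_pow_right Nat.card_pos (Cfsg.Agent.H962.FC.tor16 ht h1))
  intro m h24 hm hP
  have C := (coords (K := K) hF cF p).coord _ (root_vec hm)
  have e := Sf_eq h24 hm
  have e' : Sf cF hF.isCartan (fm m) \ {vec chevF4 4 m} = SS (m + 1) := by rw [e, SS_diff hm]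
  have h2 := le_of_tor (rgd (K := K) hF cF p) (filtF K p) (ev_nonneg h24 hm) (by rw [e]; exact SS_pos h24)
    (by rw [e]; exact closed_SS h24) (x := vec chevF4 4 m) (by rw [e]; exact ⟨m, le_rfl, hm, rfl⟩)
    (by rw [e']; exact closed_SS (by omega)) ?_ (by rw [e']; exact B_nrm_SS K (by omega) (by omega)) ht hv rfl ?_
  · rw [e', e] at h2
    exact h2
  · intro u hu v hv
    obtain ⟨a, rfl⟩ := (C.mem u).1 hu
    obtain ⟨b, rfl⟩ := (C.mem v).1 hv
    rw [← C.add, ← C.add, add_comm]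
  · intro u hu htu
    obtain ⟨a, rfl⟩ := (C.mem u).1 hu
    by_contra hne
    have ha : a ≠ 0 := by
      rintro rfl
      exact hne C.zero
    apply hP
    have hact := C.act t ht
    have h3 := hact a
    rw [htu, mul_inv_cancel_right] at h3
    have h4 := C.inj h3
    have h5 : ch hF (vec chevF4 4 m) t = 1 := by
      have h6 : ch hF (vec chevF4 4 m) t * a = 1 * a := by rw [one_mul]; exact h4.symm
      exact mul_right_cancel₀ ha h6
    intro v hv
    obtain ⟨b, rfl⟩ := (C.mem v).1 hv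
    have h6 := hact b
    rw [h5, one_mul] at h6
    exact mul_inv_eq_iff_eq_mul.1 h6

/-- **C16.** -/
theorem c16 : C16 K := by
  intro s u hu1 hu hus hs
  obtain ⟨p, hp⟩ := CharP.exists K
  have : Fact p.Prime := ⟨CharP.char_is_prime K p⟩
  have R := rgd (K := K) hF cF p
  have h1 : s ∈ PK K {k | k ≠ 3} := Cfsg.Agent.H744.FC.cent_le_PK hu hu1
    (Subgroup.mem_centralizer_singleton_iff.2 hus.symm)
  obtain ⟨w, hw, b1, hb1, k, hk, b2, hb2, rfl⟩ := (mem_PJ_iff_cell R).1 h1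
  have hJ : ({k | k ≠ 3} : Set (Fin 4)) = {i | i ∈ ([0, 1, 2] : List (Fin 4))} := by
    ext i
    fin_cases i <;> simp
  rw [hJ] at hw
  obtain ⟨ω, hω, rfl⟩ := (mem_WJ_iff cF chkLC w).1 hw
  rcases cn_le ω hω with h2 | h2
  · -- `s ∈ B`
    have h3 : cF.wordProd ω = 1 := by
      rw [eq_of_key cF h2, wordProd_nil]
    rw [h3] at hk
    have hkT : k ∈ TT chevF4 K := hk.mem_of_one
    have hsB : b1 * k * b2 ∈ BK K := mul_mem (mul_mem hb1 ((le_sup_left : TT chevF4 K ≤ BK K) hkT)) hb2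
    obtain ⟨t, ht, v, hv, e⟩ := R.mem_B.1 hsB
    rw [e] at hs ⊢
    have ht1 : t ≠ 1 := by
      rintro rfl
      exact hs (by rw [one_mul]; exact hv)
    exact case_tor (p := p) ht ht1 hv
  · have h3 := case_rep (p := p) h2 (mul_mem hb2 hb1) hk
    refine le_trans ?_ h3
    have hb2n := R.B_le_normalizer_U hb2
    refine Nat.card_le_card_of_injective (fun a => ⟨b2 * a.1 * b2⁻¹,
      (Subgroup.mem_normalizer_iff.1 hb2n _).1 a.2.1, ?_⟩) ?_
    · have h4 : a.1 * (b1 * k * b2) = b1 * k * b2 * a.1 := Subgroup.mem_centralizer_singleton_iff.1 a.2.2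
      refine Subgroup.mem_centralizer_singleton_iff.2 ?_
      calc b2 * a.1 * b2⁻¹ * (b2 * b1 * k) = b2 * (a.1 * (b1 * k * b2)) * b2⁻¹ := by group
        _ = b2 * b1 * k * (b2 * a.1 * b2⁻¹) := by rw [h4]; group
    · intro a a' h5
      have h6 : b2 * a.1 * b2⁻¹ = b2 * a'.1 * b2⁻¹ := congrArg Subtype.val h5
      exact Subtype.ext (mul_left_cancel (mul_right_cancel h6))

end Cfsg.Agent.H374.TC.Cu

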