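import Cfsg.Agent.H520.FC.Defs

/-!
# The statement C16 (helper374, S2464, `F₄(q)`)

`C16 K` : an element outside `U` which commutes with a nontrivial element of the root group of the highest root fixes at
most `q ^ 16` elements of `U`.
-/

set_option autoImplicit false

namespace Cfsg.Agent.H374.TC.Cu

open Cfsg.Agent.Nodes.BNOf Cfsg.Agent.Nodes.RGDChev Cfsg.Agent.KFacts.RgdChevCoord Cfsg.Lie
open Cfsg.Agent.H701.F43.Cent (hF cF)
open Cfsg.Agent.H520.FC

universe u

/-- the Sylow `p`-subgroup `U` -/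
abbrev UK (K : Type u) [Field K] : Subgroup ↥(chevF4.group K) :=
  RGD.Sup (XX chevF4 4 K) (RGD.Pos cF hF.isCartan)

/-- elements outside `U` -/
def C16 (K : Type u) [Field K] : Prop :=
  ∀ s u : ↥(chevF4.group K), u ≠ 1 → u ∈ XT K → u * s = s * u → s ∉ UK K →
    Nat.card ↥(UK K ⊓ Subgroup.centralizer ({s} : Set ↥(chevF4.group K))) ≤ Nat.card K ^ 16

end Cfsg.Agent.H374.TC.Cu
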