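import Cfsg.Agent.H520.FC.Defs
import Cfsg.Agent.H296.FFourPar
import Cfsg.Agent.KFacts.RgdInd

/-!
# Fixed points of an element outside `U` on `U` (helper374, S2464, `F₄(q)`)

`R` a root group datum, `f` a functional which is nonnegative on the positive roots, `Sf f` the roots with `1 ≤ f`.

* `mem_PW` : `U ∩ k⁻¹ U k`;
* `mem_two` : `a ∈ Sup X S`, `k a k⁻¹ ∈ Sup X S` implies `a ∈ Sup X {x ∈ S | w x ∈ S}`;
* `B_nrm` : `B` normalises `Sup X (Sf f)`;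
* `card_step` : `|Sup X S ∩ C| ≤ |X x| |Sup X S' ∩ C|`;
* `le_of_rep` : `s = b k`, `w x ∉ S` : the element `x` is not used;
* `le_of_tor` : the same for `s = t v`.
-/

set_option autoImplicit false
set_option linter.unusedSectionVars false

namespace Cfsg.Agent.H374.TC.Cu

open CoxeterSystem Cfsg.Agent.ChevalleyStructure.CoxeterGeom Cfsg.Agent.Tits.Roots Cfsg.Agent.Tits.Core
  Cfsg.Agent.Tits.RootComb Cfsg.Agent.Nodes.Comb Cfsg.Agent.Nodes.Reps Cfsg.Agent.Nodes.BNOf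
  Cfsg.Agent.Nodes.StabComb Cfsg.Agent.Nodes.Bruhat Cfsg.Agent.Nodes.OppDec Cfsg.Agent.Nodes.LeviDec
  Cfsg.Agent.Nodes.NormalForm Cfsg.Agent.Nodes.Unique Cfsg.Agent.KFacts.RgdPar
  Cfsg.Agent.KFacts.RgdBorelTits Cfsg.Agent.KFacts.RgdFilt
open scoped commutatorElement

variable {I W Y : Type*} [Fintype I] [DecidableEq I] [Group W] [Group Y] {M : CoxeterMatrix I}
  {cs : CoxeterSystem M W} {A : I → I → ℤ} {h : IsCartan M A} {p : ℕ} {T : Subgroup Y} {n : I → Y}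
  {X : (I → ℤ) → Subgroup Y} (R : RGD cs h p T n X)

include R

/-- `U ∩ k⁻¹ U k` -/
theorem mem_PW [Finite W] {w : W} {k : Y} (hk : Rp cs R.nsys w k) {r : Y} (hr : r ∈ RGD.Sup X (RGD.Pos cs h))
    (hkr : k * r * k⁻¹ ∈ RGD.Sup X (RGD.Pos cs h)) : r ∈ RGD.Sup X (PW cs h w) := by
  obtain ⟨b, hb, c, hc, rfl⟩ := exists_PW_NW R w hr
  have hb' : k * b * k⁻¹ ∈ RGD.Sup X (RGD.Pos cs h) :=
    conj_mem_Sup R hk (S' := RGD.Pos cs h) (fun x hx => hx.1) (fun x hx => ⟨hx.1.act _, hx.2.2⟩) hb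
  have hc' : k * c * k⁻¹ ∈ RGD.Sup X (RGD.Pos cs h) := by
    have e : k * c * k⁻¹ = (k * b * k⁻¹)⁻¹ * (k * (b * c) * k⁻¹) := by group
    rw [e]
    exact mul_mem (inv_mem hb') hkr
  have hc'' : k * c * k⁻¹ ∈ UN cs h X :=
    conj_mem_Sup R hk (S' := Neg cs h) (fun x hx => hx.1) (fun x hx => ⟨hx.1.act _, hx.2.2⟩) hc
  have h1 : k * c * k⁻¹ ∈ RGD.Sup X (RGD.Pos cs h) ⊓ UN cs h X := ⟨hc', hc''⟩
  rw [U_inf_UN R, Subgroup.mem_bot] at h1
  have h2 : c = 1 := by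
    have e : c = k⁻¹ * (k * c * k⁻¹) * k := by group
    rw [e, h1]; group
  rw [h2, mul_one]
  exact hb

omit R in
theorem closed_PW (w : W) : Closed cs h (PW cs h w) := by
  have e : PW cs h w = Fut cs h w⁻¹ := by
    ext x
    show _ ↔ IsRoot cs h x ∧ 0 ≤ x ∧ 0 ≤ rep cs h w⁻¹⁻¹ x
    rw [inv_inv]
    exact Iff.rfl
  rw [e]
  exact closed_fut _

/-- two memberships -/
theorem mem_two [Finite W] {w : W} {k : Y} (hk : Rp cs R.nsys w k) {S : Set (I → ℤ)} (hS : S ⊆ RGD.Pos cs h)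
    (hc : Closed cs h S) {r : Y} (hr : r ∈ RGD.Sup X S) (hkr : k * r * k⁻¹ ∈ RGD.Sup X S) :
    r ∈ RGD.Sup X {x | x ∈ S ∧ rep cs h w x ∈ S} := by
  have h1 := mem_PW R hk (RGD.Sup_mono hS hr) (RGD.Sup_mono hS hkr)
  have hPW : PW cs h w ⊆ RGD.Pos cs h := fun x hx => ⟨hx.1, hx.2.1⟩
  have h2 : r ∈ RGD.Sup X (S ∩ PW cs h w) := by
    rw [← inf_eq R hS hPW hc (closed_PW w)]
    exact ⟨hr, h1⟩
  set S2 : Set (I → ℤ) := {y | rep cs h w⁻¹ y ∈ S ∩ PW cs h w} with hS2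
  have hS2P : S2 ⊆ RGD.Pos cs h := by
    intro y hy
    have h3 : rep cs h w⁻¹ y ∈ PW cs h w := hy.2
    refine ⟨?_, ?_⟩
    · have h4 := h3.1.act w
      rwa [rep_apply_inv] at h4
    · have h4 := h3.2.2
      rwa [rep_apply_inv] at h4
  have hc2 : Closed cs h S2 := Cfsg.Agent.KFacts.RgdInd.closed_act (hc.inter (closed_PW w)) w⁻¹
  have h3 : k * r * k⁻¹ ∈ RGD.Sup X S2 := by
    refine conj_mem_Sup R hk (fun x hx => (hS hx.1).1) (fun x hx => ?_) h2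
    show rep cs h w⁻¹ (rep cs h w x) ∈ S ∩ PW cs h w
    rw [rep_inv_apply]
    exact hx
  have h4 : k * r * k⁻¹ ∈ RGD.Sup X (S ∩ S2) := by
    rw [← inf_eq R hS hS2P hc hc2]
    exact ⟨hkr, h3⟩
  have h5 : k⁻¹ * (k * r * k⁻¹) * k ∈ RGD.Sup X {x | x ∈ S ∧ rep cs h w x ∈ S} := by
    refine conj_mem_Sup' R hk (fun x hx => (hS hx.1).1) (fun x hx => ?_) h4
    refine ⟨hx.2.1, ?_⟩
    rw [rep_apply_inv]
    exact hx.1
  have e : k⁻¹ * (k * r * k⁻¹) * k = r := by group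
  rwa [e] at h5

omit R in
/-- the roots with `1 ≤ f` -/
def Sf (cs : CoxeterSystem M W) (h : IsCartan M A) (f : I → ℝ) : Set (I → ℤ) := {x | IsRoot cs h x ∧ 1 ≤ ev f x}

omit R in
theorem VV_F2 (f : I → ℝ) : VV cs h (F2 X X) f = RGD.Sup X (Sf cs h f) := by
  apply le_antisymm
  · refine FS_le fun z hz => ?_
    by_cases h1 : 1 ≤ ev f z
    · show F2 X X z (ev f z) ≤ _
      rw [F2_self h1]
      exact RGD.le_Sup (S := Sf cs h f) ⟨hz, h1⟩
    · show F2 X X z (ev f z) ≤ _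
      rw [F2_zero (not_le.1 h1)]
      exact bot_le
  · refine RGD.Sup_le fun z hz => ?_
    have h1 := le_FS (G := fun z => F2 X X z (ev f z)) (S := {z | IsRoot cs h z}) hz.1
    have h2 : F2 X X z (ev f z) = X z := F2_self hz.2
    calc X z = F2 X X z (ev f z) := h2.symm
      _ ≤ _ := h1

/-- `B` normalises `Sup X (Sf f)` -/
theorem B_nrm (hFi : Filt R (F2 X X)) {f : I → ℝ} (hf : ∀ x ∈ RGD.Pos cs h, 0 ≤ ev f x) :
    RGD.B cs h T X ≤ Subgroup.normalizer (RGD.Sup X (Sf cs h f) : Set Y) := by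
  rw [← VV_F2]
  refine le_trans ?_ (Pf_le_normalizer hFi f)
  refine sup_le le_sup_left (le_trans ?_ le_sup_right)
  exact RGD.Sup_mono fun x hx => ⟨hx.1, hf x hx⟩

omit R in
theorem conj_nrm {N : Subgroup Y} {b a : Y} (hb : b ∈ Subgroup.normalizer (N : Set Y)) (ha : a ∈ N) :
    b⁻¹ * a * b ∈ N := by
  have h1 := (Subgroup.mem_normalizer_iff.1 (inv_mem hb) a).1 ha
  rwa [inv_inv] at h1

/-- `s = b k` : the root `x` with `w x ∉ S` is not used -/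
theorem le_of_rep [Finite W] {w : W} {k b s : Y} (hk : Rp cs R.nsys w k) (hs : s = b * k) {S S' : Set (I → ℤ)}
    (hS : S ⊆ RGD.Pos cs h) (hc : Closed cs h S) (hb : b ∈ Subgroup.normalizer (RGD.Sup X S : Set Y)) {x : I → ℤ}
    (hSS : ∀ y ∈ S, y = x ∨ y ∈ S') (hx : rep cs h w x ∉ S) :
    RGD.Sup X S ⊓ Subgroup.centralizer {s} ≤ RGD.Sup X S' ⊓ Subgroup.centralizer {s} := by
  rintro a ⟨ha, hac⟩
  refine ⟨?_, hac⟩
  have h1 : a * s = s * a := Subgroup.mem_centralizer_singleton_iff.1 hac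
  have h2 : k * a * k⁻¹ = b⁻¹ * a * b := by
    have h3 : b * k * a = a * (b * k) := by rw [← hs, h1]
    calc k * a * k⁻¹ = b⁻¹ * (b * k * a) * k⁻¹ := by group
      _ = b⁻¹ * a * b := by rw [h3]; group
  have h3 : k * a * k⁻¹ ∈ RGD.Sup X S := by
    rw [h2]
    exact conj_nrm hb ha
  have h4 := mem_two R hk hS hc ha h3
  refine RGD.Sup_mono (fun y hy => ?_) h4
  rcases hSS y hy.1 with rfl | h5
  · exact absurd hy.2 hx
  · exact h5

omit R in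
/-- the number of elements -/
theorem card_step [Finite Y] {A B : Subgroup Y} (C : Subgroup Y) (hBA : B ≤ A) :
    Nat.card ↥(A ⊓ C) ≤ B.relIndex A * Nat.card ↥(B ⊓ C) := by
  have e : B ⊓ C = B ⊓ (A ⊓ C) := by
    rw [← inf_assoc, inf_eq_left.2 hBA]
  have h0 : B.relIndex A ≠ 0 := by
    have h1 : (B.subgroupOf A).FiniteIndex := inferInstance
    exact h1.index_ne_zero
  have h1 : (B ⊓ (A ⊓ C)).relIndex (A ⊓ C) = B.relIndex (A ⊓ C) := Subgroup.inf_relIndex_right _ _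
  have h2 : B.relIndex (A ⊓ C) ≤ B.relIndex A := Subgroup.relIndex_le_of_le_right inf_le_left h0
  have h3 : Nat.card ↥(B ⊓ (A ⊓ C)) * (B ⊓ (A ⊓ C)).relIndex (A ⊓ C) = Nat.card ↥(A ⊓ C) := by
    rw [← Subgroup.relIndex_bot_left, ← Subgroup.relIndex_bot_left (A ⊓ C)]
    exact Subgroup.relIndex_mul_relIndex _ _ _ bot_le inf_le_right
  rw [e, ← h3, h1, mul_comm]
  exact Nat.mul_le_mul_right _ h2

omit R in
theorem Sup_singleton (x : I → ℤ) : RGD.Sup X {x} = X x := by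
  apply le_antisymm
  · refine RGD.Sup_le fun z hz => ?_
    rw [Set.mem_singleton_iff.1 hz]
  · exact RGD.le_Sup (Set.mem_singleton x)

theorem X_inf_N [Finite W] {x : I → ℤ} (hx : x ∈ RGD.Pos cs h) {S' : Set (I → ℤ)} (hS' : S' ⊆ RGD.Pos cs h)
    (hc' : Closed cs h S') (hxS : x ∉ S') {u : Y} (hu : u ∈ X x) (hu' : u ∈ RGD.Sup X S') : u = 1 := by
  have h1 := inf_eq R (S := {x}) (S' := S') (by rintro _ rfl; exact hx) hS'
    (Cfsg.Agent.KFacts.RgdInd.closed_singleton hx.1) hc'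
  have h2 : ({x} : Set (I → ℤ)) ∩ S' = ∅ := by
    rw [Set.eq_empty_iff_forall_notMem]
    rintro y ⟨hy, hy'⟩
    rw [Set.mem_singleton_iff.1 hy] at hy'
    exact hxS hy'
  rw [h2, Sup_empty] at h1
  have h3 : u ∈ RGD.Sup X {x} ⊓ RGD.Sup X S' := ⟨by rw [Sup_singleton]; exact hu, hu'⟩
  rw [h1, Subgroup.mem_bot] at h3
  exact h3

/-- `[U, X x] ≤ Sup X (Sf f \ {x})` -/
theorem comm_N (hFi : Filt R (F2 X X)) {f : I → ℝ} (hf : ∀ x ∈ RGD.Pos cs h, 0 ≤ ev f x) {x : I → ℤ}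
    (hx : x ∈ RGD.Pos cs h) (hxS : x ∈ Sf cs h f) (hab : ∀ u ∈ X x, ∀ v ∈ X x, u * v = v * u)
    (hn : RGD.B cs h T X ≤ Subgroup.normalizer (RGD.Sup X (Sf cs h f \ {x}) : Set Y)) {u v : Y} (hu : u ∈ X x)
    (hv : v ∈ RGD.Sup X (RGD.Pos cs h)) : v * u * v⁻¹ * u⁻¹ ∈ RGD.Sup X (Sf cs h f \ {x}) := by
  set N := RGD.Sup X (Sf cs h f \ {x}) with hN
  have key : ∀ v ∈ RGD.Sup X (RGD.Pos cs h), ∀ u ∈ X x, v * u * v⁻¹ * u⁻¹ ∈ N := by
    intro v hv
    unfold RGD.Sup at hv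
    have hmem : v ∈ RGD.B cs h T X := RGD.U_le_B (by unfold RGD.Sup; exact hv)
    let K : Subgroup Y :=
      { carrier := {v | v ∈ RGD.B cs h T X ∧ ∀ u ∈ X x, v * u * v⁻¹ * u⁻¹ ∈ N}
        one_mem' := ⟨one_mem _, fun u _ => by
          have e : (1 : Y) * u * 1⁻¹ * u⁻¹ = 1 := by group
          rw [e]; exact one_mem _⟩
        mul_mem' := by
          rintro a b ⟨ha, ha'⟩ ⟨hb, hb'⟩
          refine ⟨mul_mem ha hb, fun u hu => ?_⟩
          have e : a * b * u * (a * b)⁻¹ * u⁻¹ = (a * (b * u * b⁻¹ * u⁻¹) * a⁻¹) * (a * u * a⁻¹ * u⁻¹) := by group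
          rw [e]
          exact mul_mem ((Subgroup.mem_normalizer_iff.1 (hn ha) _).1 (hb' u hu)) (ha' u hu)
        inv_mem' := by
          rintro a ⟨ha, ha'⟩
          refine ⟨inv_mem ha, fun u hu => ?_⟩
          have e : a⁻¹ * u * a⁻¹⁻¹ * u⁻¹ = a⁻¹ * (a * u * a⁻¹ * u⁻¹)⁻¹ * a := by group
          rw [e]
          exact conj_nrm (hn ha) (inv_mem (ha' u hu)) }
    have hle : RGD.Sup X (RGD.Pos cs h) ≤ K := by
      refine RGD.Sup_le fun y hy v hv => ?_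
      refine ⟨RGD.X_le_B hy.1 hy.2 hv, fun u hu => ?_⟩
      by_cases hyx : y = x
      · subst hyx
        have e : v * u * v⁻¹ * u⁻¹ = 1 := by
          rw [hab v hv u hu]; group
        rw [e]; exact one_mem _
      · have hne : x ≠ -y := by
          intro e
          have h1 : x ≤ 0 := by rw [e]; exact neg_nonpos.2 hy.2
          exact hx.1.ne_zero (le_antisymm h1 hx.2)
        have h1 := hFi.comm f x y hxS.1 hy.1 (fun e => hyx e.symm) hne (lt_of_lt_of_le one_pos hxS.2) (hf y hy) u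
          (by rw [F2_self hxS.2]; exact hu) v hv
        have h2 : FS (fun z => F2 X X z (ev f z)) {z | Btwn cs h x y z} ≤ N := by
          refine FS_le fun z hz => ?_
          by_cases h3 : 1 ≤ ev f z
          · show F2 X X z (ev f z) ≤ _
            rw [F2_self h3]
            refine RGD.le_Sup (S := Sf cs h f \ {x}) ⟨⟨hz.1, h3⟩, ?_⟩
            intro e
            exact btwn_ne_left hx.1 hy.1 hx.2 hy.2 (fun e => hyx e.symm) hz (Set.mem_singleton_iff.1 e)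
          · show F2 X X z (ev f z) ≤ _
            rw [F2_zero (not_le.1 h3)]
            exact bot_le
        have e : v * u * v⁻¹ * u⁻¹ = ⁅u, v⁆⁻¹ := by
          rw [commutatorElement_def]; group
        rw [e]
        exact inv_mem (h2 h1)
    exact (hle hv).2
  exact key v hv u hu

/-- `s = t v` : the root `x` is not used if `t` has no fixed points on `X x` -/
theorem le_of_tor [Finite W] (hFi : Filt R (F2 X X)) {f : I → ℝ} (hf : ∀ x ∈ RGD.Pos cs h, 0 ≤ ev f x)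
    (hS : Sf cs h f ⊆ RGD.Pos cs h) (hc : Closed cs h (Sf cs h f)) {x : I → ℤ} (hxS : x ∈ Sf cs h f)
    (hc' : Closed cs h (Sf cs h f \ {x})) (hab : ∀ u ∈ X x, ∀ v ∈ X x, u * v = v * u)
    (hn : RGD.B cs h T X ≤ Subgroup.normalizer (RGD.Sup X (Sf cs h f \ {x}) : Set Y)) {t v s : Y} (ht : t ∈ T)
    (hv : v ∈ RGD.Sup X (RGD.Pos cs h)) (hs : s = t * v) (hct : ∀ u ∈ X x, t * u = u * t → u = 1) :
    RGD.Sup X (Sf cs h f) ⊓ Subgroup.centralizer {s} ≤ RGD.Sup X (Sf cs h f \ {x}) ⊓ Subgroup.centralizer {s} := by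
  rintro a ⟨ha, hac⟩
  refine ⟨?_, hac⟩
  have h1 : a * s = s * a := Subgroup.mem_centralizer_singleton_iff.1 hac
  obtain ⟨u, hu, c, hc0, rfl⟩ := (mem_peel R hS hc hxS).1 ha
  set N := RGD.Sup X (Sf cs h f \ {x}) with hN
  have hvB : v ∈ RGD.B cs h T X := RGD.U_le_B hv
  have hxP := hS hxS
  have huB : u ∈ RGD.B cs h T X := RGD.X_le_B hxP.1 hxP.2 hu
  have h2 : v * u * v⁻¹ * u⁻¹ ∈ N := comm_N R hFi hf hxP hxS hab hn hu hv
  have h3 : v * c * v⁻¹ ∈ N := (Subgroup.mem_normalizer_iff.1 (hn hvB) _).1 hc0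
  have h4 : u⁻¹ * (v * u * v⁻¹ * u⁻¹) * u ∈ N := conj_nrm (hn huB) h2
  set c2 := u⁻¹ * (v * u * v⁻¹ * u⁻¹) * u * (v * c * v⁻¹) with hc2
  have h5 : c2 ∈ N := mul_mem h4 h3
  have htB : t ∈ RGD.B cs h T X := (le_sup_left : T ≤ RGD.B cs h T X) ht
  have h6 : t * c2 * t⁻¹ ∈ N := (Subgroup.mem_normalizer_iff.1 (hn htB) _).1 h5
  have h7 : t * u * t⁻¹ ∈ X x := by
    have h8 : cj t (X x) = X x := R.tor x hxP.1 t ht
    rw [← h8]
    exact conj_mem_cj.2 hu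
  have h8 : u * c = t * u * t⁻¹ * (t * c2 * t⁻¹) := by
    have e1 : u * c = s * (u * c) * s⁻¹ := by rw [← h1]; group
    calc u * c = s * (u * c) * s⁻¹ := e1
      _ = t * u * t⁻¹ * (t * c2 * t⁻¹) := by rw [hs, hc2]; group
  have h9 : (t * u * t⁻¹)⁻¹ * u = t * c2 * t⁻¹ * c⁻¹ := by
    have e1 : u = t * u * t⁻¹ * (t * c2 * t⁻¹) * c⁻¹ := by rw [← h8]; group
    nth_rewrite 2 [e1]
    group
  have h10 : (t * u * t⁻¹)⁻¹ * u = 1 := by
    refine X_inf_N R hxP (fun y hy => hS hy.1) hc' (fun hy => hy.2 rfl) (mul_mem (inv_mem h7) hu) ?_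
    rw [h9]
    exact mul_mem h6 (inv_mem hc0)
  have h11 : t * u * t⁻¹ = u := by
    have := inv_mul_eq_one.1 h10
    exact this
  have h12 : u = 1 := hct u hu (mul_inv_eq_iff_eq_mul.1 h11)
  rw [h12, one_mul]
  exact hc0

end Cfsg.Agent.H374.TC.Cu
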