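import Cfsg.Agent.H374.TC.CuDef
import Cfsg.Agent.H374.TC.CuGen
import Cfsg.Agent.H744.FC.CentTheta

/-!
# The chain of the groups `Sup X (SS m)` in `F₄(q)` (helper374)

`SS m` : the roots with numbers `m, …, 47` (`24 ≤ m`); the order of the numbers is the order of
`phi x = 1000 x₀ + 100 x₁ + 10 x₂ + x₃`.

* `Sf_eq` : `SS m = Sf (fm m)`; `closed_SS`; `B_nrm_SS`; `relIndex_SS`;
* `cn ω` : the number of `r ∈ 24, …, 47` with `w r ≥ r`; `cn_le` : at most 16 for `1 ≠ w ∈ W(C₃)`.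
-/

set_option autoImplicit false
set_option linter.unusedSectionVars false

namespace Cfsg.Agent.H374.TC.Cu

open CoxeterSystem Cfsg.Agent.ChevalleyStructure.CoxeterGeom Cfsg.Agent.Tits.Roots Cfsg.Agent.Tits.Core
  Cfsg.Agent.Tits.RootComb Cfsg.Agent.Nodes.Comb Cfsg.Agent.Nodes.Reps Cfsg.Agent.Nodes.BNOf
  Cfsg.Agent.Nodes.StabComb Cfsg.Agent.Nodes.Bruhat Cfsg.Agent.Nodes.OppDec Cfsg.Agent.Nodes.LeviDec
  Cfsg.Agent.Nodes.NormalForm Cfsg.Agent.Nodes.Unique Cfsg.Agent.Nodes.NormX Cfsg.Agent.Nodes.Coroot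
  Cfsg.Agent.KFacts.RgdPar Cfsg.Agent.KFacts.RgdChevCoord
  Cfsg.Agent.KFacts.RgdBorelTits Cfsg.Agent.KFacts.RgdFilt
open Cfsg.Agent.KFacts.RgdTI (cpr_rep_left)
open Cfsg.Lie Cfsg.Agent.ChevalleyStructure Cfsg.Agent.ChevalleyStructure.Elts
  Cfsg.Agent.ChevalleyStructure.RootVec Cfsg.Agent.ChevalleyStructure.RootVecTab
  Cfsg.Agent.ChevalleyStructure.NPerm Cfsg.Agent.ChevalleyStructure.CoxeterGeomTypes
open Cfsg.Agent.Nodes Cfsg.Agent.Nodes.RGDChev
open Cfsg.Agent.H701.F43.Cent (hF cF nroots finW)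
open Cfsg.Agent.H520.FC

universe u

/-- the order of the roots -/
def phi (x : Fin 4 → ℤ) : ℤ := 1000 * x 0 + 100 * x 1 + 10 * x 2 + x 3

theorem phi_tab : ∀ m < 48, ∀ r < 48, 24 ≤ m →
    (phi (vec chevF4 4 m) ≤ phi (vec chevF4 4 r) ↔ m ≤ r) := by decide +kernel

theorem phi_pos : ∀ m < 48, 24 ≤ m → 0 < phi (vec chevF4 4 m) := by decide +kernel

/-- the weights -/
def wt : Fin 4 → ℝ := ![1000, 100, 10, 1]

/-- the functional of the root `m` -/
noncomputable def fm (m : ℕ) : Fin 4 → ℝ := fun i => wt i / (phi (vec chevF4 4 m) : ℝ)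

theorem ev_fm (m : ℕ) (x : Fin 4 → ℤ) : ev (fm m) x = (phi x : ℝ) / (phi (vec chevF4 4 m) : ℝ) := by
  show ∑ i, (x i : ℝ) * (wt i / (phi (vec chevF4 4 m) : ℝ)) = _
  rw [Fin.sum_univ_four]
  show (x 0 : ℝ) * (1000 / _) + (x 1 : ℝ) * (100 / _) + (x 2 : ℝ) * (10 / _) + (x 3 : ℝ) * (1 / _) = _
  unfold phi
  push_cast
  ring

/-- the roots with numbers at least `m` -/
def SS (m : ℕ) : Set (Fin 4 → ℤ) := {x | ∃ r, m ≤ r ∧ r < 48 ∧ x = vec chevF4 4 r}

theorem root_cases {x : Fin 4 → ℤ} (hx : IsRoot cF hF.isCartan x) : ∃ r < 48, x = vec chevF4 4 r := by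
  obtain ⟨r, hr, e⟩ := (isRoot_iff hF cF x).1 hx
  rw [nroots] at hr
  exact ⟨r, hr, e.symm⟩

theorem root_vec {r : ℕ} (hr : r < 48) : IsRoot cF hF.isCartan (vec chevF4 4 r) :=
  (isRoot_iff hF cF _).2 ⟨r, by rw [nroots]; exact hr, rfl⟩

theorem vec_inj' {r s : ℕ} (hr : r < 48) (hs : s < 48) (e : vec chevF4 4 r = vec chevF4 4 s) : r = s :=
  vec_inj hF (r := r) (s := s) (by rw [nroots]; exact hr) (by rw [nroots]; exact hs) e

theorem Sf_eq {m : ℕ} (h24 : 24 ≤ m) (hm : m < 48) : Sf cF hF.isCartan (fm m) = SS m := by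
  have hp : (0 : ℝ) < (phi (vec chevF4 4 m) : ℝ) := by exact_mod_cast phi_pos m hm h24
  ext x
  constructor
  · rintro ⟨hx, h1⟩
    obtain ⟨r, hr, rfl⟩ := root_cases hx
    rw [ev_fm, one_le_div hp] at h1
    exact ⟨r, (phi_tab m hm r hr h24).1 (by exact_mod_cast h1), hr, rfl⟩
  · rintro ⟨r, hmr, hr, rfl⟩
    refine ⟨root_vec hr, ?_⟩
    rw [ev_fm, one_le_div hp]
    exact_mod_cast (phi_tab m hm r hr h24).2 hmr

theorem SS_pos {m : ℕ} (h24 : 24 ≤ m) : SS m ⊆ RGD.Pos cF hF.isCartan := by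
  rintro x ⟨r, hmr, hr, rfl⟩
  exact ⟨root_vec hr, (Cfsg.Agent.SigZero.FFourTwo.nonneg_iff hr).2 (le_trans h24 hmr)⟩

theorem SS_24 : SS 24 = RGD.Pos cF hF.isCartan := by
  refine Set.Subset.antisymm (SS_pos le_rfl) ?_
  rintro x ⟨hx, h0⟩
  obtain ⟨r, hr, rfl⟩ := root_cases hx
  exact ⟨r, (Cfsg.Agent.SigZero.FFourTwo.nonneg_iff hr).1 h0, hr, rfl⟩

theorem SS_48 : SS 48 = ∅ := by
  rw [Set.eq_empty_iff_forall_notMem]
  rintro x ⟨r, h1, h2, -⟩
  omega

theorem SS_diff {m : ℕ} (hm : m < 48) : SS m \ {vec chevF4 4 m} = SS (m + 1) := by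
  ext x
  constructor
  · rintro ⟨⟨r, hmr, hr, rfl⟩, hne⟩
    refine ⟨r, ?_, hr, rfl⟩
    rcases Nat.lt_or_eq_of_le hmr with h | h
    · exact h
    · subst h
      exact absurd rfl hne
  · rintro ⟨r, hmr, hr, rfl⟩
    refine ⟨⟨r, by omega, hr, rfl⟩, fun e => ?_⟩
    have := vec_inj' hr hm (Set.mem_singleton_iff.1 e)
    omega

theorem cart_le : ∀ i < 4, ∀ r < 48, chevF4.cartan i r ≤ 2 := by decide +kernel

theorem cpr_le {x z : Fin 4 → ℤ} (hx : IsRoot cF hF.isCartan x) (hz : IsRoot cF hF.isCartan z) :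
    cpr cF hF.isCartan x z ≤ 2 := by
  obtain ⟨w, i, rfl⟩ := hz
  have h1 : cpr cF hF.isCartan x (rep cF hF.isCartan w (sr i)) =
      cpr cF hF.isCartan (rep cF hF.isCartan w⁻¹ x) (sr i) :=
    ((cpr_rep_left w⁻¹ x (isRoot_sr cF hF.isCartan i)).trans (by rw [inv_inv])).symm
  rw [h1]
  obtain ⟨r, hr, e⟩ := root_cases (hx.act w⁻¹)
  rw [e, Cfsg.Agent.Nodes.ChevCls.cpr_vec hF cF i (by rw [nroots]; exact hr)]
  exact cart_le i i.2 r hr

theorem closed_SS {m : ℕ} (h24 : 24 ≤ m) : Closed cF hF.isCartan (SS m) := by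
  rintro x ⟨r, hmr, hr, rfl⟩ y ⟨s, hms, hs, rfl⟩ z ⟨hz, c, a, b, hc, ha, hb, e⟩
  obtain ⟨v, hv, rfl⟩ := root_cases hz
  by_cases hm : m < 48
  swap
  · omega
  refine ⟨v, ?_, hv, rfl⟩
  have h1 : c * 2 = a * cpr cF hF.isCartan (vec chevF4 4 r) (vec chevF4 4 v) +
      b * cpr cF hF.isCartan (vec chevF4 4 s) (vec chevF4 4 v) := by
    have h2 : cpr cF hF.isCartan (c • vec chevF4 4 v) (vec chevF4 4 v) =
        cpr cF hF.isCartan (a • vec chevF4 4 r + b • vec chevF4 4 s) (vec chevF4 4 v) := by rw [e]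
    rw [cpr_add cF hF.isCartan _ _ hz, cpr_smul cF hF.isCartan _ _ hz, cpr_smul cF hF.isCartan _ _ hz,
      cpr_smul cF hF.isCartan _ _ hz, cpr_self cF hF.isCartan hz] at h2
    exact h2
  have h2 := cpr_le (root_vec hr) hz
  have h3 := cpr_le (root_vec hs) hz
  have h4 : c ≤ a + b := by nlinarith
  have h5 : c * phi (vec chevF4 4 v) = a * phi (vec chevF4 4 r) + b * phi (vec chevF4 4 s) := by
    have h6 : ∀ k, c * vec chevF4 4 v k = a * vec chevF4 4 r k + b * vec chevF4 4 s k := by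
      intro k
      have := congrFun e k
      simpa [Pi.add_apply, Pi.smul_apply, smul_eq_mul] using this
    unfold phi
    linear_combination 1000 * h6 0 + 100 * h6 1 + 10 * h6 2 + h6 3
  have h6 := (phi_tab m hm r hr h24).2 hmr
  have h7 := (phi_tab m hm s hs h24).2 hms
  have h8 := phi_pos m hm h24
  apply (phi_tab m hm v hv h24).1
  by_contra h9
  push Not at h9
  have h10 : c * phi (vec chevF4 4 v) < c * phi (vec chevF4 4 m) := mul_lt_mul_of_pos_left h9 hc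
  have h11 : c * phi (vec chevF4 4 m) ≤ (a + b) * phi (vec chevF4 4 m) := mul_le_mul_of_nonneg_right h4 h8.le
  have h12 : a * phi (vec chevF4 4 m) ≤ a * phi (vec chevF4 4 r) := mul_le_mul_of_nonneg_left h6 ha.le
  have h13 : b * phi (vec chevF4 4 m) ≤ b * phi (vec chevF4 4 s) := mul_le_mul_of_nonneg_left h7 hb.le
  have h14 : (a + b) * phi (vec chevF4 4 m) = a * phi (vec chevF4 4 m) + b * phi (vec chevF4 4 m) := by ring
  linarith

theorem ev_nonneg {m : ℕ} (h24 : 24 ≤ m) (hm : m < 48) : ∀ x ∈ RGD.Pos cF hF.isCartan, 0 ≤ ev (fm m) x := by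
  intro x hx
  rw [ev_fm]
  refine div_nonneg ?_ ?_
  · have h0 : ∀ k, 0 ≤ x k := fun k => hx.2 k
    have : 0 ≤ phi x := by
      unfold phi
      have h1 := h0 0
      have h2 := h0 1
      have h3 := h0 2
      have h4 := h0 3
      omega
    exact_mod_cast this
  · exact_mod_cast (phi_pos m hm h24).le

section

variable (K : Type u) [Field K] [Finite K]

/-- `B` -/
abbrev BK : Subgroup ↥(chevF4.group K) := RGD.B cF hF.isCartan (TT chevF4 K) (XX chevF4 4 K)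

theorem F2_restrict (x : Fin 4 → ℤ) (s : ℝ) : (F2 (XV chevF4 4 K) (XV chevF4 4 K) x s).subgroupOf (chevF4.group K) =
    F2 (XX chevF4 4 K) (XX chevF4 4 K) x s := by
  rcases lt_or_ge s 1 with h1 | h1
  · rw [F2_zero h1, F2_zero h1, Subgroup.bot_subgroupOf]
  · rw [F2_self h1, F2_self h1]

/-- the filtration -/
theorem filtF (p : ℕ) [Fact p.Prime] [CharP K p] :
    Filt (rgd (K := K) hF cF p) (F2 (XX chevF4 4 K) (XX chevF4 4 K)) := by
  have h1 := Cfsg.Agent.KFacts.RgdFiltChev.filt (K := K) hF cF p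
  have h2 : (fun x s => (F2 (XV chevF4 4 K) (XV chevF4 4 K) x s).subgroupOf (chevF4.group K)) =
      F2 (XX chevF4 4 K) (XX chevF4 4 K) := by
    funext x s
    exact F2_restrict K x s
  rw [h2] at h1
  exact h1

theorem B_nrm_SS {m : ℕ} (h24 : 24 ≤ m) (hm : m ≤ 48) :
    BK K ≤ Subgroup.normalizer (RGD.Sup (XX chevF4 4 K) (SS m) : Set ↥(chevF4.group K)) := by
  obtain ⟨p, hp⟩ := CharP.exists K
  have : Fact p.Prime := ⟨CharP.char_is_prime K p⟩
  rcases Nat.lt_or_eq_of_le hm with h | h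
  · rw [← Sf_eq h24 h]
    exact B_nrm (rgd (K := K) hF cF p) (filtF K p) (ev_nonneg h24 h)
  · rw [h, SS_48, Sup_empty]
    exact bot_normal _

theorem card_SS {m : ℕ} (h24 : 24 ≤ m) (hm : m ≤ 48) :
    Nat.card ↥(RGD.Sup (XX chevF4 4 K) (SS m)) = Nat.card K ^ (48 - m) := by
  classical
  obtain ⟨p, hp⟩ := CharP.exists K
  have : Fact p.Prime := ⟨CharP.char_is_prime K p⟩
  have e : (((List.range' m (48 - m)).toFinset.image (vec chevF4 4) : Finset (Fin 4 → ℤ)) : Set (Fin 4 → ℤ)) =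
      SS m := by
    ext x
    rw [Finset.coe_image, Set.mem_image]
    constructor
    · rintro ⟨r, hr, rfl⟩
      rw [Finset.mem_coe, List.mem_toFinset, List.mem_range'_1] at hr
      exact ⟨r, hr.1, by omega, rfl⟩
    · rintro ⟨r, hmr, hr, rfl⟩
      refine ⟨r, ?_, rfl⟩
      rw [Finset.mem_coe, List.mem_toFinset, List.mem_range'_1]
      omega
  have h1 := Cfsg.Agent.Nodes.CardSup.card_sup (rgd (K := K) hF cF p)
    (s := (List.range' m (48 - m)).toFinset.image (vec chevF4 4)) (by rw [e]; exact SS_pos h24)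
    (by rw [e]; exact closed_SS h24)
  rw [e] at h1
  rw [h1, Finset.prod_congr rfl (g := fun _ => Nat.card K) ?_, Finset.prod_const, Finset.card_image_of_injOn,
    List.toFinset_card_of_nodup List.nodup_range', List.length_range']
  · intro r hr s hs e
    rw [Finset.mem_coe, List.mem_toFinset, List.mem_range'_1] at hr hs
    exact vec_inj' (by omega) (by omega) e
  · intro x hx
    rw [Finset.mem_image] at hx
    obtain ⟨r, hr, rfl⟩ := hx
    rw [List.mem_toFinset, List.mem_range'_1] at hr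
    exact Cfsg.Agent.H744.FC.card_X K (root_vec (by omega))

theorem SS_succ_le (m : ℕ) : RGD.Sup (XX chevF4 4 K) (SS (m + 1)) ≤ RGD.Sup (XX chevF4 4 K) (SS m) := by
  refine RGD.Sup_mono ?_
  rintro x ⟨r, hmr, hr, rfl⟩
  exact ⟨r, by omega, hr, rfl⟩

theorem relIndex_SS {m : ℕ} (h24 : 24 ≤ m) (hm : m < 48) :
    (RGD.Sup (XX chevF4 4 K) (SS (m + 1))).relIndex (RGD.Sup (XX chevF4 4 K) (SS m)) = Nat.card K := by
  have h1 := Subgroup.relIndex_mul_relIndex ⊥ _ _ bot_le (SS_succ_le K m)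
  rw [Subgroup.relIndex_bot_left, Subgroup.relIndex_bot_left, card_SS K h24 hm.le, card_SS K (by omega) (by omega)]
    at h1
  have h2 : 48 - m = (48 - (m + 1)) + 1 := by omega
  rw [h2, pow_succ] at h1
  have h3 : 0 < Nat.card K := Nat.card_pos
  exact Nat.eq_of_mul_eq_mul_left (pow_pos h3 _) h1

end

/-- the number of `r ∈ 24, …, 47` which do not decrease -/
def cn (ω : List (Fin 4)) : ℕ :=
  ((List.range' 24 24).filter fun r => decide (r ≤ Cfsg.Agent.SigZero.FFourTwo.act ω r)).length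

theorem cn_le : ∀ ω ∈ Cfsg.Agent.SigZero.FFourTwo.LC,
    Cfsg.Agent.SigZero.FFourTwo.key ω = Cfsg.Agent.SigZero.FFourTwo.key [] ∨ cn ω ≤ 16 := by decide +kernel

end Cfsg.Agent.H374.TC.Cu
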