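import Cfsg.Agent.H374.TC.Tab
import Cfsg.Agent.H374.Ore.F4
import Cfsg.Agent.H122.TC.Real

/-!
# Two fixed classes for `F₄(3)` (helper374, S4173)

`SL₃(3)` with a fixed irreducible characteristic polynomial (`M3F`, by a table of the 729 products `L U`), `C` of order 6 in
`SL₂(3)`: the frame of `H374.Ore.F4`.
-/

set_option autoImplicit false
set_option linter.unusedSectionVars false

namespace Cfsg.Agent.H374.TC

open Matrix Polynomial Cfsg.Agent.H126.M3 Cfsg.Agent.H374.Ore.Sl3 Cfsg.Agent.H162.GaussSL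

universe u

/-- the characteristic polynomial is `x³ + 2 x - 1` or its dual -/
def fx (e : ℕ → ℕ) : Bool :=
  (tn e % 3 == 0 % 3 && sn 2 e % 3 == 2 % 3) || (tn e % 3 == 2 % 3 && sn 2 e % 3 == 0 % 3)

/-- the digits of entry `i` -/
def dgT (T i : ℕ) : ℕ → ℕ := dg 3 (T / (3 ^ 18) ^ i % 3 ^ 18)

/-- the test for number `i` of the table `T` -/
def tstF (T i : ℕ) : Bool :=
  tst 3 2 (dg 3 i 0) (dg 3 i 1) (dg 3 i 2) (dg 3 i 3) (dg 3 i 4) (dg 3 i 5) (dgT T i) && fx (dgT T i) &&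
    fx (fun n => dgT T i (9 + n))

/-- the table for `SL_3(3)` with a fixed characteristic polynomial -/
def T3F : ℕ :=
  0x382e1ffd807e57b71f4a161916dc957b8ebbec9ce2fa4f614adb357d93d174bab0b91ceac612fb29d3a93b5622ec7b5e366dedfaeb953abdddb5112cd57403ecdf7014f486e7c4bca153132ee125836079ab750a175a1af6378b5345598c2ed6e84034c2a1b00cc916f95bfb2541fe4f824d51c953b2e443ef2e5dacf44c1fcc12df474f615e263439d05e21158218386cd90f0b9adf79d3d6dbbc1023de44bd62220cfcd07f7bbbd3686a9734107756cfb4d77f63c4bf41823203880cc36c651ac69247f6872042c00180acb3f07e7e2a94204a323b0ba929e49c7fef4f9cbaa72200027fc59df4374cee6431b53662dc0af7c643db6b60c6ecd79d155e84a5ec776f0dd605c8254a8e59f1a1b16320d92bbd83e2f44bf967dab72716cc87d562254476b2753a59003bb96b729ce5453639d28f7250f73fadbe0bd6e0f7b7e187b685bfeed49895c70396676b66dd2fb1978d05e630672244ea54fac73c5d5a8f045e67961f627679e7a88fa35b45b8b71dd42b033b3d237e320b9d85b58900e37628abeeb236d2a597a20a83434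7e9fb5329a93651ea3b2236b483b592deba77e23f5cbc2429dc53758699f4b48d8c5b66a8d8a96854c8e05b7f47511325f148856af78f88020b3cabeb3ae55d1e872c41c0286a4dd4b271db14c67544e9fd6ee0c7b2bac71b67d689d3ca2e9f0ff1e45ccf7d94367c2e12547a466e510f3343f29973fad8f46709236f84da370efc958d83b8ab6088fcc2a7c92c101ce35aafa3734899a54035dfd2dade2777f8d7a4985750c6a777a4756359ee30de41990c3a913bbf73af6f93d4fcd29e185b3bec0f2f2f0436d65ed259ba41fb681f94236dea553b28261e89d90aca383e3f6a8dfc460fb5c02fe42f0a846c23e28e82bb2f88e173e115b9df4486ec3a77c5f9a6bbe8b0fd3eabc494e246f65668a646b1ff2896e371dc84235a1f59c0ad1b6ae97001990aed95f3f726910990a864bfdcc3cf7ec3dc30f8cea5f071567bed7ea93fde61f3b49ef002bb6f113c088424c3eccf40e4c41b2f22b47aadcaab65d9d46b89be6ea311f61055e5530d70192819e5934f69379eb96bae3883666e7eb5e76b0af98fc66150a808c6629694eda7b030dd13b4545f171ccb6f7d3857143c2ef5c900c8db17057d782483d00924496d4f352fcc94d10f7f85efe672265ad5cb055ab9a6d26156845a502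a43180b1331b767840da3d7032489063d4f9d4d9b01e4ae37a26043d639a77ef855b4d305e8351a42f88e848eede388e0b7feede2b445ca3ccc34f7cd4621427e052ddf4e0f707420c98c9a2ffc4e1d9b912e5f8d785f782f944e2b8c6894303d0032cc9d7d6ffd489eb9ffec5dc002f96945758bb2e6af87907d9d1f6b5beb387e47fa7ad49d870ad6be9a682a2ccbb52008baf317d1c34ca916a527b7842f59698181a46437c2207cd74af4d68d836a8bc73b2b945ebeb97d73ce427e91621862dd632b22a85c1b5154b01f7c72d80fd4e0f55ee948421118ce4f039755c02e1309356006c2da25ccce8535007bd44f68ba3fcac35a26ceff319ca6b97ddff372ec9cd23dad6e9940a6a489a270dff8ec2f532de7549a06f498fccc1417426070cedc114923f18c2e6ef15069666dcfad7fe86f2450d10d5d9dfbb62aef3f55f1f23651e1db528490d7afad516fc72241bd703e8d93ccc70ced234752d75754311c9040ade5174041849317d446e41e6068dab16817de4d11117489cc727f6488c4a03cea34010a8d4079f53df0139ead011fcc3bb43a000125d3073ab25f19209627308d61a947fc73fed5faa9cedd82145764faf1fb206a4390d2fdf8e5474f719ea74407c180a1edc90ff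8d9a82233b66b9ea42e8242af20ed8ac8965e2e81ec3c384213e05cef31fec76f46b2cd62125ee5a654801dd7e785eebbfa6ae5c055433852f0e24c030b3894de6e0dbd02780f60f99149c8ab97eae8f1bc509229fc7b596c8a505e89fdbc832c75a720424891d15f78dd2e38fca5c07d8980b713e6a49d0490ca27e921b627dcc8b059dd233119b4e461b20a8c6d6d38a78c14d11885126d5603df071167331412a2d06d8963d10bd1ded76be8ed0e7b5c4d166b1e42bd91b205135696b34dd2ad861504e824e8bcb3a48eaf2e3bea64a0a6d5f9036fd9afbbffeccb572c82b870a9c94280f2edd63889cdca224b9e72764f5ac0bf0107a051b4228b462c7a3137ac91dcaa8606863e980f6da3a35a197ebc69b6d0b87a89511a498464c245fd319ce238879a3cecf0b2b1a92654e9460caff27c330bc5599734c8daa6c2e02c25b5e7ae14ffbb0f933bdbde4284bd4c0899e47ddf67ac14118d828030ba9fca5dcc52e173022fd85af9e34af25e2c8da23651c0a3df7d6ca5b7c8a243519f505eea7118ceef0bf1c031ac6f1cafc7e4156abab8080562403d5747d3f26c002d9e040412af3bb07a5e56aeabf1dcb54cad379de290470f602fe78f6d8298e447718d19f8ff3a951ee63018133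8a1e8a3059e99aaee6afca2b74ef17473af1bdbf1bc6f19174dda69e567f222680ca72c369b71966197a8b3d8657ab44364d628e3bce386333e499c485a83e857014404d6f075bdb37ea81b56e58dd4bd7b22aa88cf38cc2bd8f12ff5b0abeb6852956faf3e2542fc450fc6a86d05a5721fdb4392aa59ad3349721f390535bf46e6017f8d2ffd032874847825cfc73f7b26fdba909ffbd2b7bff1a6df17eae5a8e0ca035c312c02772e84dda7aed8530fc7e360c8551517e7db58ddd6808d76012fb8d7f969c09acb964d4d342976f6a21e45eb33053784842218a4e23cd41f1706df3c1c430e1361bb4467fa2cb95f35c87756c0f2face32302c388853c156dc0b8a6c91b127fe639aeaddf9c4ad7db9ecd04387aca722e7a8a95a265b345252eb7edb1a7b7909fb11caee143d001e484c1520eede11709876c67b4c051b532a568c22bb9026bde98ad475245ea28c1e7dfb037072a5d27d1759de193dccc483402edc40ee04b93281d5de55f31d5cd3c47e5d27211267758b6c2f36800a2e8734cc0c23818e7f2d04f6f71c108ffd783eea8c40869314ae5c33fe0eb6426b9c22ff599bcb6bc6cee7d30636926b8b3340d6408c46fab931df572bf16c504b78c5b52761723b082b32ce48b44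1c8b5dc90ca3a5c63906f55f852ba88ee69be75522111013f1b26c02f4f6e6229ef2dc018bc183e8e2eb8d17636298f782f1893acec8266113e026d2afdb3f8bcc86a1018cc0204fc3c50c57906544a3785112884627052bfb7703ca20d7cad8a2c845ab158b5a3945de79dec3ac0f5242fc0db1fd1c0be32ff3282e61527976c55d772651207d3f3390bae62e87f9996a10a654cc133b97e00282b20a516b7c8d3296db4e48eea50b12d25d9a8ef24a39544b3690a128ae708bb09b85e335931ba542ff08d7ad23ec10d5fe6e390749c01b24781d8ddadd5082eae67da3fdbefcb37d5d12aae9f89d4ffcc2f135f561f96d6901f513703f25bb5899371da5c9f081d1da4579f0afbc09e02d7b956a02e52c1f425b358137cfaa801a354c347c94e301a4dfc21aa1c20c29f0f3081b3cb4b5f08b01bd444888bfdf3b5e274ab0a8e11262317bfdc1bd1c4255dc54d0036089ce882a21d48754a87b88a4e23b4779017c046e2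

theorem all3F : (List.range 729).all (tstF T3F) = true := by decide +kernel

section

variable {K : Type*} [Field K] [CharP K 3]

theorem two_eq : ((2 : ℕ) : K) = -1 := by
  have h : ((3 : ℕ) : K) = 0 := CharP.cast_eq_zero K 3
  push_cast at h ⊢
  linear_combination h

theorem charpoly_fx {e : ℕ → ℕ} (hd : (mt K e).det = 1) (h : fx e = true) :
    (mt K e).charpoly = cu (0 : K) 2 ∨ (mt K e).charpoly = cu (2 : K) 0 := by
  have h0 : (mt K e).charpoly = cu (tr3 (mt K e)) (ms3 (mt K e)) := by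
    rw [charpoly3, hd, cu]
  rw [fx, Bool.or_eq_true, Bool.and_eq_true, Bool.and_eq_true, beq_iff_eq, beq_iff_eq, beq_iff_eq, beq_iff_eq] at h
  rw [h0, tr3_mt, ms3_mt (K := K) (m := 2) two_eq]
  rcases h with ⟨h1, h2⟩ | ⟨h1, h2⟩
  · left
    rw [cast_eq (K := K) h1, cast_eq (K := K) h2, Nat.cast_zero, Nat.cast_ofNat]
  · right
    rw [cast_eq (K := K) h1, cast_eq (K := K) h2, Nat.cast_zero, Nat.cast_ofNat]

theorem soundF {a b c x y z : ℕ} {e : ℕ → ℕ} (h : tst 3 2 a b c x y z e = true) (h1 : fx e = true)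
    (h2 : fx (fun n => e (9 + n)) = true) : GoodF (0 : K) 2
      !![1, (x : K), (y : K); (a : K), a * x + 1, a * y + z; (b : K), b * x + c, b * y + c * z + 1] := by
  have hm : ((2 : ℕ) : K) = -1 := two_eq
  simp only [tst, Bool.and_eq_true, Bool.or_eq_true, beq_iff_eq, bne_iff_ne, List.all_eq_true, List.mem_range] at h
  obtain ⟨⟨⟨⟨⟨⟨⟨⟨⟨⟨⟨⟨⟨h00, h01⟩, h02⟩, h10⟩, h11⟩, h12⟩, h20⟩, h21⟩, h22⟩, hdA⟩, hdB⟩, -⟩, -⟩, -⟩ := h
  have dA : (mt K e).det = 1 := by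
    have := cast_eq (K := K) hdA
    push_cast at this
    push_cast at hm
    rw [Matrix.det_fin_three]
    simp only [Cfsg.Agent.H374.Ore.Sl3.mt]
    norm_num
    linear_combination this - (e 0 * e 5 * e 7 + e 1 * e 3 * e 8 + e 2 * e 4 * e 6) * hm
  have dB : (mt K fun n => e (9 + n)).det = 1 := by
    have := cast_eq (K := K) hdB
    push_cast at this
    push_cast at hm
    rw [Matrix.det_fin_three]
    simp only [Cfsg.Agent.H374.Ore.Sl3.mt]
    norm_num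
    linear_combination this - (e 9 * e 14 * e 16 + e 10 * e 12 * e 17 + e 11 * e 13 * e 15) * hm
  have g00 := cast_eq (K := K) h00
  have g01 := cast_eq (K := K) h01
  have g02 := cast_eq (K := K) h02
  have g10 := cast_eq (K := K) h10
  have g11 := cast_eq (K := K) h11
  have g12 := cast_eq (K := K) h12
  have g20 := cast_eq (K := K) h20
  have g21 := cast_eq (K := K) h21
  have g22 := cast_eq (K := K) h22
  push_cast at g00 g01 g02 g10 g11 g12 g20 g21 g22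
  have hmul := mul_mt e (fun n => e (9 + n)) g00 g01 g02 g10 g11 g12 g20 g21 g22
  exact ⟨mt K e, mt K fun n => e (9 + n), dA, dB, hmul.symm, charpoly_fx dA h1, charpoly_fx dB h2⟩

end

/-- **`SL₃(3)`** -/
theorem m3F_three {K : Type u} [Field K] [Finite K] (hK : Nat.card K = 3) : M3F K := by
  have : Fact (Nat.Prime 3) := ⟨Nat.prime_three⟩
  obtain ⟨hch, hall⟩ := exists_cast hK
  have h3 : ((3 : ℕ) : K) = 0 := CharP.cast_eq_zero K 3
  push_cast at h3
  refine M3F.of (s := 0) (r := 2) ?_ ?_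
  · intro x hx
    obtain ⟨n, hn, rfl⟩ := hall x
    have h1 : n = 0 ∨ n = 1 ∨ n = 2 := by omega
    rcases h1 with rfl | rfl | rfl
    · norm_num at hx
    · push_cast at hx
      exact one_ne_zero (α := K) (by linear_combination (-1 : K) * hx + h3)
    · push_cast at hx
      exact one_ne_zero (α := K) (by linear_combination (-1 : K) * hx + 4 * h3)
  · intro L hL U hU
    obtain ⟨a, ha, ea⟩ := hall (L.1 1 0)
    obtain ⟨b, hb, eb⟩ := hall (L.1 2 0)
    obtain ⟨c, hc, ec⟩ := hall (L.1 2 1)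
    obtain ⟨x, hx, ex⟩ := hall (U.1 0 1)
    obtain ⟨y, hy, ey⟩ := hall (U.1 0 2)
    obtain ⟨z, hz, ez⟩ := hall (U.1 1 2)
    obtain ⟨i, hi, h0, h1, h2, h3, h4, h5⟩ := enc (.inr rfl) ha hb hc hx hy hz
    have h := all3F
    rw [List.all_eq_true] at h
    have h6 := h i (List.mem_range.2 (by norm_num at hi; exact hi))
    rw [tstF, h0, h1, h2, h3, h4, h5, Bool.and_eq_true, Bool.and_eq_true] at h6
    have h7 := soundF (K := K) h6.1.1 h6.1.2 h6.2
    rw [ea, eb, ec, ex, ey, ez] at h7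
    change GoodF 0 2 (L * U).1
    rw [mul_LU hL hU]
    exact h7

/-! ### `F₄(3)` -/

section

open CoxeterSystem Cfsg.Agent.ChevalleyStructure.CoxeterGeom Cfsg.Agent.Tits.Roots Cfsg.Agent.Tits.Core
  Cfsg.Agent.Nodes.Reps Cfsg.Agent.Nodes.BNOf Cfsg.Agent.Nodes.RGDLib Cfsg.Agent.Nodes.Bruhat
  Cfsg.Agent.Nodes.OppDec Cfsg.Agent.Nodes.LeviDec Cfsg.Agent.Nodes.KindChev Cfsg.Agent.Nodes.ChevCls
  Cfsg.Agent.OddHalf.NI.ModelChev
  Cfsg.Agent.H162.GaussDec Cfsg.Agent.H162.GaussLevi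
  Cfsg.Agent.H162.GaussMain Cfsg.Agent.H162.GaussExc Cfsg.Agent.H162.GaussExcMain
open Cfsg.Lie Cfsg.Agent.ChevalleyStructure Cfsg.Agent.ChevalleyStructure.Elts
  Cfsg.Agent.ChevalleyStructure.RootVec Cfsg.Agent.ChevalleyStructure.NPerm
  Cfsg.Agent.ChevalleyStructure.CoxeterGeomTypes Cfsg.Agent.Nodes.RGDChev Cfsg.Agent.KFacts.RgdChevCoord
open Cfsg.Agent.H903.Ore.F4Conj Cfsg.Agent.H928.Ore.Frame Cfsg.Agent.H928.Ore.Fix Cfsg.Agent.H374.Ore.F4
  Cfsg.Agent.H122.TwoC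
open scoped MatrixGroups

/-- a nonscalar element with cube `-1` has trace one -/
theorem trace_of_cube {K : Type u} [Field K] {C : SL(2, K)} (hn : NS C) (h : C ^ 3 = -1) : C.1.trace = 1 := by
  obtain ⟨a, b, c, d, hC⟩ : ∃ a b c d : K, C.1 = !![a, b; c, d] :=
    ⟨C.1 0 0, C.1 0 1, C.1 1 0, C.1 1 1, by ext i j; fin_cases i <;> fin_cases j <;> rfl⟩
  have hd : a * d - b * c = 1 := by
    have := C.2
    rwa [hC, Matrix.det_fin_two_of] at this
  have h3 : C.1 * C.1 * C.1 = -1 := by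
    have h1 := congrArg (fun x : SL(2, K) => x.1) h
    simp only [pow_succ, pow_zero, one_mul] at h1
    exact h1
  rw [hC, Matrix.mul_fin_two, Matrix.mul_fin_two] at h3
  have e00 := congrFun (congrFun h3 0) 0
  have e01 := congrFun (congrFun h3 0) 1
  have e10 := congrFun (congrFun h3 1) 0
  have e11 := congrFun (congrFun h3 1) 1
  simp at e00 e01 e10 e11
  rw [hC, Matrix.trace_fin_two_of]
  have k1 : ((a + d) ^ 2 - 1) * b = 0 := by linear_combination e01 + b * hd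
  have k2 : ((a + d) ^ 2 - 1) * c = 0 := by linear_combination e10 + c * hd
  have k3 : ((a + d) ^ 2 - 1) * (a - d) = 0 := by linear_combination e00 - e11 + (a - d) * hd
  have k4 : (a + d) ^ 2 - 1 = 0 := by
    rcases hn with h | h | h
    · rw [hC] at h
      exact (mul_eq_zero.1 k2).resolve_right h
    · rw [hC] at h
      exact (mul_eq_zero.1 k1).resolve_right h
    · rw [hC] at h
      exact (mul_eq_zero.1 k3).resolve_right (sub_ne_zero.2 h)
  -- `C³ = (t² - 1) C - t`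
  have k5 : a * ((a + d) ^ 2 - 1) - (a + d) = -1 := by linear_combination e00 + (a + (a + d)) * hd
  rw [k4, mul_zero, zero_sub] at k5
  linear_combination (-1 : K) * k5

/-- **`F₄(3)`** -/
theorem tw_F4_three {K : Type u} [Field K] [Finite K] (hK : Nat.card K = 3) : Tw ↥(chevF4.group K) := by
  have : Fact (Nat.Prime 3) := ⟨Nat.prime_three⟩
  obtain ⟨hch, hall⟩ := exists_cast hK
  have h3 : (3 : K) = 0 := by
    have := CharP.cast_eq_zero K 3
    exact_mod_cast this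
  obtain ⟨φ₃, φ₂, B⟩ := exists_blk K
  obtain ⟨X₀, h0, hlu⟩ := m3F_three hK
  have hi : Irreducible (X₀⁻¹).1.charpoly := by
    have h1 : (X₀⁻¹).1 = (X₀.1)⁻¹ := Cfsg.Agent.H126.M3.coe_inv' X₀
    rw [h1]
    exact irr_inv h0 (Matrix.mul_nonsing_inv _ (by rw [X₀.2]; exact isUnit_one))
  obtain ⟨C₀, hC₀⟩ : ∃ C₀ : SL(2, K), C₀.1 = !![0, -1; 1, 1] := ⟨⟨!![0, -1; 1, 1], by
    rw [Matrix.det_fin_two_of]; ring⟩, rfl⟩
  have n0 : NS C₀ := by
    left
    rw [hC₀]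
    exact one_ne_zero
  have t0 : C₀.1.trace = 1 := by
    rw [hC₀, Matrix.trace_fin_two_of]
    ring
  refine tw_of_levi hF (by norm_num) (Cfsg.Agent.S1054.result chevF4 (by simp)) Cfsg.Agent.Nodes.ChevChart.irrF
    (J := JF) (a := (φ₃ X₀ * φ₂ C₀)⁻¹) (b := (φ₃ X₀ * φ₂ C₀)⁻¹) fun v hv u hu => ?_
  obtain ⟨A₁, hA₁, C₁, hC₁, rfl⟩ := B.mem_UNJ hv
  obtain ⟨A₂, hA₂, C₂, hC₂, rfl⟩ := B.mem_UJ hu
  obtain ⟨X, Y, e3, hcX, hcY⟩ := hlu _ hA₁ _ hA₂
  obtain ⟨C, C', e2, n1, n2, -, k1, k2⟩ := sl2_three h3 hC₁ hC₂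
  have hX : Irreducible X.1.charpoly := by
    rcases hcX with h | h
    · rw [h]; exact h0
    · rw [h]; exact hi
  have hY : Irreducible Y.1.charpoly := by
    rcases hcY with h | h
    · rw [h]; exact h0
    · rw [h]; exact hi
  refine ⟨φ₃ X * φ₂ C, φ₃ Y * φ₂ C', ?_, ⟨mul_mem (B.mem₃ _) (B.mem₂ _), mul_mem (B.mem₃ _) (B.mem₂ _),
    (ok_of_cube hK dg_all B k1 X hX).2, (ok_of_cube hK dg_all B k2 Y hY).1⟩,
    B.conj h0 hX hcX n0 n1 (by rw [trace_of_cube n1 k1, t0]),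
    B.conj h0 hY hcY n0 n2 (by rw [trace_of_cube n2 k2, t0])⟩
  have c1 := B.comm A₂ C₁
  have c2 := B.comm Y C
  calc φ₃ A₁ * φ₂ C₁ * (φ₃ A₂ * φ₂ C₂) = φ₃ A₁ * (φ₂ C₁ * φ₃ A₂) * φ₂ C₂ := by group
    _ = φ₃ (A₁ * A₂) * φ₂ (C₁ * C₂) := by rw [← c1, map_mul, map_mul]; group
    _ = φ₃ X * (φ₃ Y * φ₂ C) * φ₂ C' := by rw [e3, e2, map_mul, map_mul]; group
    _ = _ := by rw [c2]; group

end

end Cfsg.Agent.H374.TC
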