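import Cfsg.Agent.H374.TC.RowEF
import Cfsg.Agent.H374.TC.FThree
import Cfsg.Agent.H197.OreF.TwoCls
import Cfsg.Agent.S2523
import Cfsg.Agent.H140.TC.Fam

/-!
# S4173: the rows `F₄(q)` (all `q`), `E₆(q)` (`q ≥ 4`) (helper374)
-/

set_option autoImplicit false

namespace Cfsg.Agent.H374.TC

open Cfsg.Lie Cfsg.Agent.H140.TC Cfsg.Agent.H122.TwoC

universe u

/-- the orders below nine -/
theorem card_lt_nine {K : Type u} [Field K] [Finite K] (h : Nat.card K < 9) : Nat.card K = 2 ∨ Nat.card K = 3 ∨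
    Nat.card K = 4 ∨ Nat.card K = 5 ∨ Nat.card K = 7 ∨ Nat.card K = 8 := by
  have := Fintype.ofFinite K
  have h1 : 1 < Nat.card K := Finite.one_lt_card
  have h2 : IsPrimePow (Nat.card K) := by
    rw [Nat.card_eq_fintype_card]
    exact FiniteField.isPrimePow_card K
  have h6 : Nat.card K ≠ 6 := by
    intro h6
    rw [h6] at h2
    exact absurd h2 (by
      rw [isPrimePow_nat_iff_bounded]
      decide)
  omega

/-- **`F₄(q)`, all `q`** -/
theorem tw_F4_all {K : Type u} [Field K] [Finite K] : Tw ↥(chevF4.group K) := by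
  have := Fintype.ofFinite K
  by_cases h9 : 9 ≤ Nat.card K
  · obtain ⟨c, hc⟩ := Cfsg.Agent.S2523.result (F := K) (by rw [← Nat.card_eq_fintype_card]; exact h9)
      (G := ↥(chevF4.group K)) (by
        right; right; right; right; right; left
        exact ⟨MulEquiv.refl _⟩)
    exact ⟨c, c, fun g _ => hc g⟩
  · rcases card_lt_nine (K := K) (by omega) with h | h | h
    · exact Cfsg.Agent.H197.OreF.tc_F4_two (by rw [← Nat.card_eq_fintype_card]; exact h)
    · exact tw_F4_three h
    · exact tw_F4 h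

/-- **`E₆(q)`, `q ≥ 4`** -/
theorem tw_E6_ge4 {K : Type u} [Field K] [Finite K] (hK : 4 ≤ Nat.card K) : Tw ↥(chevE6.group K) := by
  have := Fintype.ofFinite K
  by_cases h9 : 9 ≤ Nat.card K
  · obtain ⟨c, hc⟩ := Cfsg.Agent.S2523.result (F := K) (by rw [← Nat.card_eq_fintype_card]; exact h9)
      (G := ↥(chevE6.group K)) (by
        right; right; right; right; right; right; left
        exact ⟨MulEquiv.refl _⟩)
    exact ⟨c, c, fun g _ => hc g⟩
  · rcases card_lt_nine (K := K) (by omega) with h | h | h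
    · omega
    · omega
    · exact tw_E6 h

/-- **the row `F₄(q)`** -/
theorem tc_f4 {S : Type*} [Group S] (h : Lie.IsoF4 S) : TC S := by
  obtain ⟨F, i1, i2, ⟨e⟩⟩ := h
  exact TC.of_equiv e (tw_F4_all (K := F))

end Cfsg.Agent.H374.TC
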